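import Cfsg.Agent.Lib.Spor.Cos.Y522.ActAData
import Cfsg.Agent.Lib.Spor.Cos.Y522.Words

/-! Data and checks for a presented sporadic group. -/

set_option autoImplicit false
set_option maxRecDepth 100000
set_option maxHeartbeats 4000000

namespace Cfsg.Agent.Spor.Cos.Y522

theorem actA_rels18 : allBlock (actA.chkFix words) 6561 256 18 = true := by decide +kernel

theorem actA_rels19 : allBlock (actA.chkFix words) 6561 256 19 = true := by decide +kernel

theorem actA_rels20 : allBlock (actA.chkFix words) 6561 256 20 = true := by decide +kernel

theorem actA_rels21 : allBlock (actA.chkFix words) 6561 256 21 = true := by decide +kernel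

theorem actA_rels22 : allBlock (actA.chkFix words) 6561 256 22 = true := by decide +kernel

theorem actA_rels23 : allBlock (actA.chkFix words) 6561 256 23 = true := by decide +kernel


end Cfsg.Agent.Spor.Cos.Y522
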