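import Cfsg.Agent.Lib.Spor.Cos.Y522.ActAData

/-! Data and checks for a presented sporadic group. -/

set_option autoImplicit false
set_option maxRecDepth 100000
set_option maxHeartbeats 4000000

namespace Cfsg.Agent.Spor.Cos.Y522

theorem actA_inv0 : allBlock (actA.chkInv) 6561 1024 0 = true := by decide +kernel

theorem actA_inv1 : allBlock (actA.chkInv) 6561 1024 1 = true := by decide +kernel

theorem actA_inv2 : allBlock (actA.chkInv) 6561 1024 2 = true := by decide +kernel

theorem actA_inv3 : allBlock (actA.chkInv) 6561 1024 3 = true := by decide +kernel

theorem actA_inv4 : allBlock (actA.chkInv) 6561 1024 4 = true := by decide +kernel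

theorem actA_inv5 : allBlock (actA.chkInv) 6561 1024 5 = true := by decide +kernel

theorem actA_inv6 : allBlock (actA.chkInv) 6561 1024 6 = true := by decide +kernel


end Cfsg.Agent.Spor.Cos.Y522
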