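import Cfsg.Agent.Lib.Spor.Cos.Y522.Lv7Ent

/-! Data and checks for a presented sporadic group. -/

set_option autoImplicit false
set_option maxRecDepth 100000
set_option maxHeartbeats 4000000

namespace Cfsg.Agent.Spor.Cos.Y522

theorem lv7_ok : lv7.Ok actA lv7W 7 where
  letters := by decide +kernel
  pos := by decide +kernel
  ents := lv7_ents

end Cfsg.Agent.Spor.Cos.Y522
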