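import Cfsg.Agent.Lib.Spor.Cos.Simple
import Cfsg.Agent.Lib.Spor.Cos.Y522.ActA
import Cfsg.Agent.Lib.Spor.Cos.Y522.Lv0
import Cfsg.Agent.Lib.Spor.Cos.Y522.Lv1
import Cfsg.Agent.Lib.Spor.Cos.Y522.Lv2
import Cfsg.Agent.Lib.Spor.Cos.Y522.Lv3
import Cfsg.Agent.Lib.Spor.Cos.Y522.Lv4
import Cfsg.Agent.Lib.Spor.Cos.Y522.Lv5
import Cfsg.Agent.Lib.Spor.Cos.Y522.Lv6
import Cfsg.Agent.Lib.Spor.Cos.Y522.Lv7
import Cfsg.Agent.Lib.Spor.Cos.Y522.Lv8

/-! Data and checks for a presented sporadic group. -/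

set_option autoImplicit false
set_option maxRecDepth 100000
set_option maxHeartbeats 4000000

namespace Cfsg.Agent.Spor.Cos.Y522

theorem lev_top : LevR g actA piA (singles (List.range 10)) 129965007049113600 [0, 1, 2, 3, 4, 5, 6, 7, 9] := by
  have := finite
  have h9 : LevR g actA piA [] 1 [] := LevR.nil
  have h8 : LevR g actA piA lv8W 2 [9] :=
    LevR.step homA h9 lv8_ok (by decide +kernel) (by decide +kernel) (by decide +kernel)
  have h7 : LevR g actA piA lv7W 4 [7, 9] :=
    LevR.step homA h8 lv7_ok (by decide +kernel) (by decide +kernel) (by decide +kernel)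
  have h6 : LevR g actA piA lv6W 36 [6, 7, 9] :=
    LevR.step homA h7 lv6_ok (by decide +kernel) (by decide +kernel) (by decide +kernel)
  have h5 : LevR g actA piA lv5W 720 [5, 6, 7, 9] :=
    LevR.step homA h6 lv5_ok (by decide +kernel) (by decide +kernel) (by decide +kernel)
  have h4 : LevR g actA piA lv4W 51840 [4, 5, 6, 7, 9] :=
    LevR.step homA h5 lv4_ok (by decide +kernel) (by decide +kernel) (by decide +kernel)
  have h3 : LevR g actA piA lv3W 12597120 [3, 4, 5, 6, 7, 9] :=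
    LevR.step homA h4 lv3_ok (by decide +kernel) (by decide +kernel) (by decide +kernel)
  have h2 : LevR g actA piA lv2W 9170703360 [2, 3, 4, 5, 6, 7, 9] :=
    LevR.step homA h3 lv2_ok (by decide +kernel) (by decide +kernel) (by decide +kernel)
  have h1 : LevR g actA piA lv1W 19808719257600 [1, 2, 3, 4, 5, 6, 7, 9] :=
    LevR.step homA h2 lv1_ok (by decide +kernel) (by decide +kernel) (by decide +kernel)
  have h0 : LevR g actA piA (singles (List.range 10)) 129965007049113600 [0, 1, 2, 3, 4, 5, 6, 7, 9] :=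
    LevR.step homA h1 lv0_ok (by decide +kernel) (by decide +kernel) (by decide +kernel)
  exact h0

theorem det (y : P) (h : ∀ q : Fin actA.N, (q : ℕ) ∈ [0, 1, 2, 3, 4, 5, 6, 7, 9] → piA y q = q) : y = 1 := by
  have := finite
  exact (lev_top.top g_gen upper.2).2 y h

end Cfsg.Agent.Spor.Cos.Y522
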