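import Cfsg.Agent.Lib.Spor.Cos.Y522.Arm

/-!
The difference of an end node and the longest element of its diagram of type E7 is conjugate to the longest element
of a diagram of type E8.
-/

set_option autoImplicit false
set_option maxRecDepth 100000
set_option maxHeartbeats 1000000

namespace Cfsg.Agent.Spor.Cos.Y522

/-- The longest element of a diagram of type E8. -/
def e8Word : List ℕ := [0, 1, 2, 3, 4, 6, 8, 9, 0, 1, 2, 3, 4, 6, 8, 9, 0, 1, 2, 3, 4, 6, 8, 9, 0, 1, 2, 3, 4, 6, 8, 9, 0, 1, 2, 3, 4, 6, 8, 9, 0, 1, 2, 3, 4, 6, 8, 9, 0, 1, 2, 3, 4, 6, 8, 9, 0, 1, 2, 3, 4, 6, 8, 9, 0, 1, 2, 3, 4, 6, 8, 9, 0, 1, 2, 3, 4, 6, 8, 9, 0, 1, 2, 3, 4, 6, 8, 9, 0, 1, 2, 3, 4, 6, 8, 9, 0, 1, 2, 3, 4, 6, 8, 9, 0, 1, 2, 3, 4, 6, 8, 9, 0, 1, 2, 3, 4, 6, 8, 9]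

/-- An end node times the longest element of its diagram of type E7. -/
def endWord : List ℕ := [5, 3, 7, 2, 8, 6, 1, 0, 3, 7, 2, 8, 6, 1, 0, 3, 7, 2, 8, 6, 1, 0, 3, 7, 2, 8, 6, 1, 0, 3, 7, 2, 8, 6, 1, 0, 3, 7, 2, 8, 6, 1, 0, 3, 7, 2, 8, 6, 1, 0, 3, 7, 2, 8, 6, 1, 0, 3, 7, 2, 8, 6, 1, 0]

/-- The conjugating word. -/
def conjWord : List ℕ := [4, 3, 2, 1, 0, 8, 9, 6, 0, 8, 7, 1, 0, 6, 2, 1, 0, 8, 3, 2, 1, 0, 6, 4, 3, 2, 1, 0, 8, 9, 3, 2, 1, 0, 6, 4, 3, 2, 1, 0, 8, 7, 6, 0, 1, 2, 3, 4, 5]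

theorem end_conj : ev g (conjWord ++ e8Word ++ conjWord.reverse ++ endWord.reverse) = 1 := by
  have h := pow_eq_one homA det (p := 1) (w := conjWord ++ e8Word ++ conjWord.reverse ++ endWord.reverse)
    (show ∀ s ∈ conjWord ++ e8Word ++ conjWord.reverse ++ endWord.reverse, s < 10 by decide +kernel) (by decide +kernel)
  rwa [pow_one] at h

theorem map_end {G : Type*} [Group G] (φ : P →* G) (hz : φ (ev g e8Word) = 1) : φ (ev g endWord) = 1 := by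
  have h := congrArg φ end_conj
  have hr : ∀ w : List ℕ, (∀ s ∈ w, s < 10) → ev g w.reverse = (ev g w)⁻¹ := ev_reverse fun s _ => g_sq s
  rw [ev_append, ev_append, ev_append, hr conjWord (by decide), hr endWord (by decide +kernel), map_mul, map_mul,
    map_mul, hz, mul_one, map_inv, mul_inv_cancel, one_mul, map_inv, map_one, inv_eq_one] at h
  exact h

end Cfsg.Agent.Spor.Cos.Y522
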