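import Cfsg.Agent.Lib.Spor.Cos.Log

/-!
Data of a coset enumeration with 16 cosets.
-/

set_option autoImplicit false
set_option maxRecDepth 100000
set_option maxHeartbeats 4000000

namespace Cfsg.Agent.Spor.Cos.Y522

def d5FactsT0 : Tree := .leaf 0x40000f0000f40000e0000e00000b0000b20000800008200006000063000030000330000200002300001000013000000000000000f0000f10000d0000d10000b0000b10000c0000c10000a0000a10000900009100007000070000060000600000400004200001000012000000000030000f0000f30000e0000e30000d0000d30000b0000b20000a0000a2000070000700000300003100001000011000000000020000f0000f20000e0000e00000c0000c00000a0000a4000080000840000600006400005000054000040000440000300003400002000020000000000000000800009100006000081000040000520000c0000d30000a0000c10000f0000e00000e0000d40000d0000b40000c0000920000b0000940000a00007300009000073000080000500000700005300006000042000050000320000400002100003000020000020000140000100000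

/-- The table d5Facts. -/
def d5Facts : Table := ⟨d5FactsT0, 0, 44, 6⟩

def d5FinalT0 : Tree := .node (.leaf 0xf000084000be000390000c0001240002a000610003980004c0003e000470002e8000dc0002c000110000a00016c0004c00035000078001c40004800027000090000400008a00059000068000cc000160006f0001280015c000620000e00004800088000180002f0000500001c0004600055000168001b40001000005000218000ac000d6000060000200000c0000200069000298001040000400000000338001440007e00029) (.leaf 0x3b80013c0007a0001d000328001d40009a0003b0000e00006c000320004b0001000018c0003400017)

/-- The table d5Final. -/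
def d5Final : Table := ⟨d5FinalT0, 1, 21, 6⟩

/-- The base words of `d5`. -/
def d5Base : List (List ℕ) := [[0, 1, 0, 1, 0, 1], [0, 2, 0, 2, 0, 2], [0, 3, 0, 3], [0, 4, 0, 4, 0, 4], [1, 2, 1, 2], [1, 3, 1, 3], [1, 4, 1, 4], [2, 3, 2, 3, 2, 3], [2, 4, 2, 4], [3, 4, 3, 4]]

/-- The certificate `d5`. -/
def d5 : Log where
  n := 5
  N := 16
  M := 16
  nF := 60
  facts := d5Facts
  final := d5Final
  rels := [[3, 4, 3, 4], [2, 4, 2, 4], [1, 2, 1, 2], [1, 3, 1, 3], [0, 3, 0, 3], [0, 4, 0, 4, 0, 4], [1, 4, 1, 4], [0, 2, 0, 2, 0, 2], [0, 1, 0, 1, 0, 1], [2, 3, 2, 3, 2, 3]]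
  sub := [[0], [1], [2], [3]]

end Cfsg.Agent.Spor.Cos.Y522
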