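import Cfsg.Agent.Lib.Spor.Cos.Y522.D5Data

/-! Checks of the facts of a coset enumeration. -/

set_option autoImplicit false
set_option maxRecDepth 100000
set_option maxHeartbeats 4000000

namespace Cfsg.Agent.Spor.Cos.Y522

theorem d5_part0 : d5.chkPart 15 60 [(28, 0x520000180001c0000c0000201808000040403800004000000005100808000000400800000000000030000980001d0000e008020001c0100c000940001b0000d008020001a010100003c000200001080007c0008e02018000500c0900008800054000280001000022808060000e03024000260001200022804040000e02004000120000d000060000200008602018000180c070002000000c0000a000040000100c04000020202000002000000001f804040000002018000000000000160003a0000e80007004010000e00804000200000d80006800042000390100c0003006038000d00004c000170000b00009c0602000080100a000300000680004c000240000c018080001404028000c00001e0000e010040001402000000b8000160000a010040001002000000b00001200008010040000c02008000a80000e00006010040000802008000a80000a00004010040000802030000040000600002000000000a40403000000180a0000000000000a0000780004000018010100002808040000580003800046010100002008030000380002000008010100001008020000b8000600002801010000480801000098000580002001010000380800), (17, 0x1d00003a0001c01004000380203000064000360001a0000c0001cc04030000b0180a00070000130000540002800027018080002004038001b0000120000f00007000020060200003010120006a0000380002c0001400006018080000804048001a80000a00004010040000802018001a0000060000201004000040202000004000000006700808000000400000000000000034000c40001b0000e800070000340301000068080800010000084000be010100006008020000a800050000b6010100004808020000b800058000b60101000048080600009800048000b201010000380806000120000980004e000250002b808060000c03020000440000d0000600008c000aa02018000200c0800005800028000aa01010000200804)]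 = true := by decide +kernel

end Cfsg.Agent.Spor.Cos.Y522
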