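import Cfsg.Agent.Lib.Spor.Cos.Log

/-!
Data of a coset enumeration with 27 cosets.
-/

set_option autoImplicit false
set_option maxRecDepth 100000
set_option maxHeartbeats 4000000

namespace Cfsg.Agent.Spor.Cos.Y522

def e6FactsT0 : Tree := .node (.leaf 0x200008000082000060000620000700007200005000052000040000420000300003200002000021000000000000001a0001a0000190001930001700017300015000153000160001630001400014300013000133000120001200000f0000f00000e0000e00000c0000c00000b0000b100008000081000060000610000700007100004000041000050000510000300003000001000010000000000040000f0000e40000c0000b40000a00009200014000162000130001210000d000103000050000740000700008100016000172000100001140001a0001930001900018000018000175000170001550001600013100015000135000140001200001300011000012000103000110000f3000100000c20000f0000c20000e0000b30000d0000a10000c0000a10000b0000900000a00008000009000075000080000650000700004400006000045000050000330000400003000003000021000020000120000100000) (.leaf 0x30001a0001a40001800018400017000174000160001640001400014400015000154000130001340001200012400011000114000100001040000d0000d30000e0000e30000b0000b300009000090000050000550000200002500001000015000000000020001a0001a20001900019200018000182000170001720001500015100014000141000120001200000d0000d3000080000830000600006400005000054000030000340000200002400001000014000000000010001a0001a100019000191000180001800001600016000014000145000110001150000f0000f50000e0000e5000100001050000d0000d50000c0000c50000b0000b50000a0000a50000900009000006000060000040000430000200002300001000013000000000050001a0001a5000190001950001800018000015000151000110001110000f0000f10000e0000e20000d0000d20000a0000a20000900009)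

/-- The table e6Facts. -/
def e6Facts : Table := ⟨e6FactsT0, 1, 44, 6⟩

def e6FinalT0 : Tree := .node (.node (.leaf 0xc00020c0002c000130004f800108001c2000810000a0000440001e00038000638001fc000ae00012000068000e4000740007b000298000400001c0000b000628001f4000aa0009d0000480030c00076000790002780037c000180000a000038001dc000a20009b000040003040000c0007500026800014001ba000bf0004c8001cc00006000040006d8002f40012e000010000100012c001b2000bb0004a800000000e200049) (.leaf 0x148002340004e000f3000328001040019a000b1000150003bc000c60003f000140000940004c000ed000308000f80019600023000578003ac00042000340004580009000152000e90000f8000d400078000220005680011c000400001d0004480017c00156000460007280006c0010e0005d0005380039c00032000850001e8003240014a000450000f0000700002e0005b00051800110001c60001a0000a8001640014200043)) (.node (.leaf 0x126000330007d80035c001720006f000488000c800062000d50005b8001b40011e000f90001800034c0016a0002f000168003dc000d6000d10001b0000b800056000f5000338001000006e000b3000160003c4000d2000cf) (.leaf 0))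

/-- The table e6Final. -/
def e6Final : Table := ⟨e6FinalT0, 2, 21, 6⟩

/-- The base words of `e6`. -/
def e6Base : List (List ℕ) := [[0, 1, 0, 1, 0, 1], [0, 2, 0, 2], [0, 3, 0, 3, 0, 3], [0, 4, 0, 4], [0, 5, 0, 5, 0, 5], [1, 2, 1, 2, 1, 2], [1, 3, 1, 3], [1, 4, 1, 4], [1, 5, 1, 5], [2, 3, 2, 3], [2, 4, 2, 4], [2, 5, 2, 5], [3, 4, 3, 4, 3, 4], [3, 5, 3, 5], [4, 5, 4, 5]]

/-- The certificate `e6`. -/
def e6 : Log where
  n := 6
  N := 27
  M := 27
  nF := 126
  facts := e6Facts
  final := e6Final
  rels := [[2, 3, 2, 3], [1, 5, 1, 5], [4, 5, 4, 5], [3, 5, 3, 5], [1, 3, 1, 3], [0, 2, 0, 2], [2, 5, 2, 5], [0, 4, 0, 4], [1, 4, 1, 4], [2, 4, 2, 4], [0, 1, 0, 1, 0, 1], [0, 3, 0, 3, 0, 3], [1, 2, 1, 2, 1, 2], [0, 5, 0, 5, 0, 5], [3, 4, 3, 4, 3, 4]]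
  sub := [[0], [1], [3], [4], [5]]

end Cfsg.Agent.Spor.Cos.Y522
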