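import Cfsg.Agent.Lib.Spor.Cos.Y522.E6Data

/-! Checks of the facts of a coset enumeration. -/

set_option autoImplicit false
set_option maxRecDepth 100000
set_option maxHeartbeats 4000000

namespace Cfsg.Agent.Spor.Cos.Y522

theorem e6_part0 : e6.chkPart 26 126 [(28, 0x1980006c00037010040005802020001880005200028010040004c02020000ac0005400063008080004c040180009c0004c00061008080004804018000840004a000240001000017c04030000f018160001f000118000880003c0005b0100c000300605800074000380005b0080800030040280006c0003400059008080002c040280015800026000170000b0000480602000080101400052000088000540002800010018080001c04050000e00007200053008080001c040400002c0001400051008080001004040000e8000760004f0080800014040200001c0000c0004d008080000c0402000024000100004d008080000c040080000c0000a000040000100012c0403000010181400001000000001240202000000100a0000000000000f0002280007400034020080005804090002180005c00028020080004804080001c00004c0002002008000380407000138000a80007c010100009008060001a00009400044020080008004050000c8000780002c01010000500804000048000300000c01010000180803000068000380001401010000200802000158000b000050010100009808010000f8000800003801010000600800), (27, 0x1e00013000090000380013a02018000300c0d00006800044000200000c0004d808060000803034000160000a0004d80404000080201c001300000500003800018000080301000010080b0004b00000c00004020080000804040004a0000040000002008000000400000000000000088002400006600032010040006402010002380006200030010040006002018000b40005e0002e000160002340403000150181a0008a000128000a400050000240180800044040500021000078000340001a8000f406020000d01018000820000b8000740003800016018080002804060002000002a0001b0000d00005006020000901018000190000c00020c02020000a010000007e000098000480401000080080a0007a000088000400401000070080a000380001c8001ec020200007010120000b000050001dc020200004010120000d000060001dc0202000040100c00009000040001d40202000030100c00007000030001d40202000030100000072000028000100401000020080a000010000180000800000000710100c00000060600000000000004000066000320003680404000320201c000d40002f000188000c00005c03010000b8080b),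 (27, 0xcc00064000d5008080006404048000c400060000d3008080006004000003400005e0002e010040005c02028001000006c0003700020800334040300014018180003f000148000a00007c000cb0100c00048060600009c0004c000cb008080004804008000f000046000220001e80032404030000d01814000c60000980006400030000120180800020040580030800074000380001c8000ec0602000050101c000c00000380002c0001400006018080000c040700002400010000c1008080000c04010002f80000a00004010040000802038002f00000600002010040000402040002e800002000000100400000020480000000000004800066000320005b80404000320202000062000300005a8040400030020100006c0002f000170000dc0016602018000b00c0a00057000094000560002a0001200c040002202034001500002300013800098000440301000080080d000540000d00006a020080008004060005200007400038020080006004060005100006c00034020080005804060005200007c0003c020080006004030005000006400030020080005004030005000005c0002c020080005004010004f0000540002802008000480401), (18, 0xf8000188000cc0006400030018080006004070003d80005e0002e010040005c02038000b400058000f1008080005404010000ac00054000ef008080004c040100009c0004c000ed008080004804010003b80005200028010040004c02040003a80004a00024010040004402038003a000046000220100400040020380011c00042000200002300039404030000e0181c000450000f80007800088000e30100c0002c060700010c0003200018000210003840403000090181c000e20000d80006804010000b00800000e00000a800050040100009008080003a0000880004000076000df0100c0001406058003700000a00009000040000100602000020101a000da0000180000804010000100802000d8000008000000401000000080c00000000000013)]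 = true := by decide +kernel

end Cfsg.Agent.Spor.Cos.Y522
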