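import Cfsg.Agent.Lib.Spor.Cos.Orb

/-! Data and checks for a presented sporadic group. -/

set_option autoImplicit false
set_option maxRecDepth 100000
set_option maxHeartbeats 4000000

namespace Cfsg.Agent.Spor.Cos.Y522

def lv4EB0 : Bst := .node 2 (.node 1 (.leaf 0x1000b008200050009006400010009003600050008000a00000008006300050006003b00000006003700040005000900050004003a000400030038000300030008000400020039000200020007000000010006000100000005000000000004) (.leaf 0x50019005f0004001900d100000018003300040016008000040015003d00050014009100000014006000040012003400040011003c0005001000900005000f000c0002000f00610004000e00810005000d00350005000b000b0002000b0062)) (.node 3 (.leaf 0x2a00c40003002700b200020026003000010026007d00000025005d0004002400c30003002300ec00010022007e0002002100310000002000de0004001f005e0005001e00e50002001d008f0000001c007f0000001b00320004001a00a7) (.node 4 (.leaf 0x3003b002200030039002000000039001e00030036002100000036007a0003003500db00020034001d0003003200ff0003003100b000020030007b0002002f00dc0001002f00c50003002d00b10002002c00bb0002002b005c0001002b007c) (.leaf 0x10046015f00000045014d00040043014c00040040010d0002004001490002003f00ba0004003d01430003003d001f)))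

/-- The table lv4E. -/
def lv4E : Tab := ⟨lv4EB0, 48, 4⟩

def lv4PB0 : Bst := .node 12 (.node 6 (.node 3 (.node 1 (.leaf 0x150011000c0008000500030002000100000000000000000000) (.node 2 (.leaf 0x40003d00390000000000000000000000000000000000000000000000000000) (.leaf 0x3f003c003e))) (.node 4 (.leaf 0x1b0017000a0007000400060009000d00120018001d00210027002d) (.node 5 (.leaf 0) (.leaf 0x1f0025002b0031000000000000000000000000000000000000000000000000)))) (.node 9 (.node 7 (.leaf 0xe000b001000140019) (.node 8 (.leaf 0x220028002c00300036003b0000000000000000000000000000000000000000) (.leaf 0x23000000000000000000000000000000000000000000000000000f0013001c))) (.node 10 (.leaf 0x1a0016) (.node 11 (.leaf 0x200000000000000000000000000000) (.leaf 0x3200420000000000000000000000000000002e00330037))))) (.node 18 (.node 15 (.node 13 (.leaf 0x34002f002a000000000000) (.node 14 (.leaf 0x2600000035003a000000000000000000000000000000000000001e0000) (.leaf 0x29000000000000000000000000002400000000000000000000))) (.node 16 (.leaf 0x38000000000000000000000000000000000000000000000000000000000000) (.node 17 (.leaf 0x440000000000000000000000000000000000000000000000000000) (.leaf 0)))) (.node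 21 (.node 19 (.leaf 0) (.node 20 (.leaf 0) (.leaf 0x460045000000000043000000000000000000000041000000000000))) (.node 23 (.node 22 (.leaf 0x47000000000000000000000000000000000000000000000000000000000000) (.leaf 0)) (.leaf 0))))

/-- The table lv4P. -/
def lv4P : Tab := ⟨(.node 205 (.node 102 (.node 51 (.node 25 lv4PB0 (.leaf 0)) (.leaf 0)) (.leaf 0)) (.leaf 0)), 16, 4⟩

/-- The words of `lv4`. -/
def lv4W : List (List ℕ) := [[0], [1], [6], [7], [8], [9]]

/-- An orbit of 72 points. -/
def lv4 : Orb := ⟨72, lv4E, lv4P⟩

end Cfsg.Agent.Spor.Cos.Y522
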