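import Cfsg.Agent.Lib.Spor.Cos.Orb

/-! Data and checks for a presented sporadic group. -/

set_option autoImplicit false
set_option maxRecDepth 100000
set_option maxHeartbeats 4000000

namespace Cfsg.Agent.Spor.Cos.Y522

def lv5EB0 : Bst := .node 1 (.leaf 0x3000c00810004000a000b0001000a006200040008006400040007000a00000007006300040005003b00000005003700030004000900040003003a000300020038000200020008000300010039000100010007000000000006000000000005) (.leaf 0x12007f0003001000800003000e003c0004000d0090)

/-- The table lv5E. -/
def lv5E : Tab := ⟨lv5EB0, 48, 4⟩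

def lv5PB0 : Bst := .node 12 (.node 6 (.node 3 (.node 1 (.leaf 0xe000b0007000400020001000000000000000000000000) (.leaf 0)) (.node 4 (.leaf 0x11000900060003000500080000000000000000000000000000) (.leaf 0))) (.node 9 (.node 7 (.leaf 0xc000a000d00000000) (.node 8 (.leaf 0x13000000000000000000000000000000000000000000000000000000000000) (.leaf 0xf0012))) (.node 10 (.leaf 0x10) (.leaf 0)))) (.leaf 0)

/-- The table lv5P. -/
def lv5P : Tab := ⟨(.node 205 (.node 102 (.node 51 (.node 25 lv5PB0 (.leaf 0)) (.leaf 0)) (.leaf 0)) (.leaf 0)), 16, 4⟩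

/-- The words of `lv5`. -/
def lv5W : List (List ℕ) := [[0], [6], [7], [8], [9]]

/-- An orbit of 20 points. -/
def lv5 : Orb := ⟨20, lv5E, lv5P⟩

end Cfsg.Agent.Spor.Cos.Y522
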