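import Cfsg.Agent.Lib.Spor.Cos.Orb

/-! Data and checks for a presented sporadic group. -/

set_option autoImplicit false
set_option maxRecDepth 100000
set_option maxHeartbeats 4000000

namespace Cfsg.Agent.Spor.Cos.Y522

def lv6EB0 : Bst := .leaf 0x30006000a00030004003b00020003000900030002003a000200010038000100010008000200000039000000000007000000000006

/-- The table lv6E. -/
def lv6E : Tab := ⟨lv6EB0, 48, 4⟩

def lv6PB0 : Bst := .node 12 (.node 6 (.node 3 (.node 1 (.leaf 0x80006000300010000000000000000000000000000) (.leaf 0)) (.node 4 (.leaf 0x700050002000400000000000000000000000000000000) (.leaf 0))) (.leaf 0)) (.leaf 0)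

/-- The table lv6P. -/
def lv6P : Tab := ⟨(.node 205 (.node 102 (.node 51 (.node 25 lv6PB0 (.leaf 0)) (.leaf 0)) (.leaf 0)) (.leaf 0)), 16, 4⟩

/-- The words of `lv6`. -/
def lv6W : List (List ℕ) := [[6], [7], [8], [9]]

/-- An orbit of 9 points. -/
def lv6 : Orb := ⟨9, lv6E, lv6P⟩

end Cfsg.Agent.Spor.Cos.Y522
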