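import Cfsg.Agent.Lib.Spor.Cos.Orb

/-! Data and checks for a presented sporadic group. -/

set_option autoImplicit false
set_option maxRecDepth 100000
set_option maxHeartbeats 4000000

namespace Cfsg.Agent.Spor.Cos.Y522

def lv7EB0 : Bst := .leaf 0x8000000000007

/-- The table lv7E. -/
def lv7E : Tab := ⟨lv7EB0, 48, 4⟩

def lv7PB0 : Bst := .node 12 (.node 6 (.node 3 (.node 1 (.leaf 0x100000000000000000000000000000000) (.leaf 0)) (.leaf 0)) (.leaf 0)) (.leaf 0)

/-- The table lv7P. -/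
def lv7P : Tab := ⟨(.node 205 (.node 102 (.node 51 (.node 25 lv7PB0 (.leaf 0)) (.leaf 0)) (.leaf 0)) (.leaf 0)), 16, 4⟩

/-- The words of `lv7`. -/
def lv7W : List (List ℕ) := [[7], [9]]

/-- An orbit of 2 points. -/
def lv7 : Orb := ⟨2, lv7E, lv7P⟩

end Cfsg.Agent.Spor.Cos.Y522
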