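import Cfsg.Agent.Lib.Spor.Cos.Orb

/-! Data and checks for a presented sporadic group. -/

set_option autoImplicit false
set_option maxRecDepth 100000
set_option maxHeartbeats 4000000

namespace Cfsg.Agent.Spor.Cos.Y522

def lv8EB0 : Bst := .leaf 0xa000000000009

/-- The table lv8E. -/
def lv8E : Tab := ⟨lv8EB0, 48, 4⟩

def lv8PB0 : Bst := .node 12 (.node 6 (.node 3 (.node 1 (.leaf 0x10000000000000000000000000000000000000000) (.leaf 0)) (.leaf 0)) (.leaf 0)) (.leaf 0)

/-- The table lv8P. -/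
def lv8P : Tab := ⟨(.node 205 (.node 102 (.node 51 (.node 25 lv8PB0 (.leaf 0)) (.leaf 0)) (.leaf 0)) (.leaf 0)), 16, 4⟩

/-- The words of `lv8`. -/
def lv8W : List (List ℕ) := [[9]]

/-- An orbit of 2 points. -/
def lv8 : Orb := ⟨2, lv8E, lv8P⟩

end Cfsg.Agent.Spor.Cos.Y522
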