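import Cfsg.Agent.Lib.Spor.Cos.Y522.TopPart0
import Cfsg.Agent.Lib.Spor.Cos.Y522.TopPart1
import Cfsg.Agent.Lib.Spor.Cos.Y522.TopPart2
import Cfsg.Agent.Lib.Spor.Cos.Y522.TopPart3
import Cfsg.Agent.Lib.Spor.Cos.Y522.TopPart4
import Cfsg.Agent.Lib.Spor.Cos.Y522.TopPart5
import Cfsg.Agent.Lib.Spor.Cos.Y522.TopPart6
import Cfsg.Agent.Lib.Spor.Cos.Y522.TopPart7

/-! A checked coset enumeration. -/

set_option autoImplicit false
set_option maxRecDepth 100000
set_option maxHeartbeats 4000000

namespace Cfsg.Agent.Spor.Cos.Y522

theorem top_def0 : allBlock top.chkDef 25448 512 0 = true := by decide +kernel

theorem top_def1 : allBlock top.chkDef 25448 512 1 = true := by decide +kernel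

theorem top_def2 : allBlock top.chkDef 25448 512 2 = true := by decide +kernel

theorem top_def3 : allBlock top.chkDef 25448 512 3 = true := by decide +kernel

theorem top_def4 : allBlock top.chkDef 25448 512 4 = true := by decide +kernel

theorem top_def5 : allBlock top.chkDef 25448 512 5 = true := by decide +kernel

theorem top_def6 : allBlock top.chkDef 25448 512 6 = true := by decide +kernel

theorem top_def7 : allBlock top.chkDef 25448 512 7 = true := by decide +kernel

theorem top_def8 : allBlock top.chkDef 25448 512 8 = true := by decide +kernel

theorem top_def9 : allBlock top.chkDef 25448 512 9 = true := by decide +kernel

theorem top_def10 : allBlock top.chkDef 25448 512 10 = true := by decide +kernel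

theorem top_def11 : allBlock top.chkDef 25448 512 11 = true := by decide +kernel

theorem top_def12 : allBlock top.chkDef 25448 512 12 = true := by decide +kernel

theorem top_def13 : allBlock top.chkDef 25448 512 13 = true := by decide +kernel

theorem top_def14 : allBlock top.chkDef 25448 512 14 = true := by decide +kernel

theorem top_def15 : allBlock top.chkDef 25448 512 15 = true := by decide +kernel

theorem top_def16 : allBlock top.chkDef 25448 512 16 = true := by decide +kernel

theorem top_def17 : allBlock top.chkDef 25448 512 17 = true := by decide +kernel

theorem top_def18 : allBlock top.chkDef 25448 512 18 = true := by decide +kernel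

theorem top_def19 : allBlock top.chkDef 25448 512 19 = true := by decide +kernel

theorem top_def20 : allBlock top.chkDef 25448 512 20 = true := by decide +kernel

theorem top_def21 : allBlock top.chkDef 25448 512 21 = true := by decide +kernel

theorem top_def22 : allBlock top.chkDef 25448 512 22 = true := by decide +kernel

theorem top_def23 : allBlock top.chkDef 25448 512 23 = true := by decide +kernel

theorem top_def24 : allBlock top.chkDef 25448 512 24 = true := by decide +kernel

theorem top_def25 : allBlock top.chkDef 25448 512 25 = true := by decide +kernel

theorem top_def26 : allBlock top.chkDef 25448 512 26 = true := by decide +kernel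

theorem top_def27 : allBlock top.chkDef 25448 512 27 = true := by decide +kernel

theorem top_def28 : allBlock top.chkDef 25448 512 28 = true := by decide +kernel

theorem top_def29 : allBlock top.chkDef 25448 512 29 = true := by decide +kernel

theorem top_def30 : allBlock top.chkDef 25448 512 30 = true := by decide +kernel

theorem top_def31 : allBlock top.chkDef 25448 512 31 = true := by decide +kernel

theorem top_def32 : allBlock top.chkDef 25448 512 32 = true := by decide +kernel

theorem top_def33 : allBlock top.chkDef 25448 512 33 = true := by decide +kernel

theorem top_def34 : allBlock top.chkDef 25448 512 34 = true := by decide +kernel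

theorem top_def35 : allBlock top.chkDef 25448 512 35 = true := by decide +kernel

theorem top_def36 : allBlock top.chkDef 25448 512 36 = true := by decide +kernel

theorem top_def37 : allBlock top.chkDef 25448 512 37 = true := by decide +kernel

theorem top_def38 : allBlock top.chkDef 25448 512 38 = true := by decide +kernel

theorem top_def39 : allBlock top.chkDef 25448 512 39 = true := by decide +kernel

theorem top_def40 : allBlock top.chkDef 25448 512 40 = true := by decide +kernel

theorem top_def41 : allBlock top.chkDef 25448 512 41 = true := by decide +kernel

theorem top_def42 : allBlock top.chkDef 25448 512 42 = true := by decide +kernel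

theorem top_def43 : allBlock top.chkDef 25448 512 43 = true := by decide +kernel

theorem top_def44 : allBlock top.chkDef 25448 512 44 = true := by decide +kernel

theorem top_def45 : allBlock top.chkDef 25448 512 45 = true := by decide +kernel

theorem top_def46 : allBlock top.chkDef 25448 512 46 = true := by decide +kernel

theorem top_def47 : allBlock top.chkDef 25448 512 47 = true := by decide +kernel

theorem top_def48 : allBlock top.chkDef 25448 512 48 = true := by decide +kernel

theorem top_def49 : allBlock top.chkDef 25448 512 49 = true := by decide +kernel

theorem top_defs : ∀ i, i + 1 < top.M → top.chkDef i = true := by
  intro i hi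
  change i + 1 < 25449 at hi
  refine of_allBlock (n := 25448) (size := 512) (by decide) (fun j hj => ?_) (by omega)
  have hj' : j < 50 := by omega
  interval_cases j
  · exact top_def0
  · exact top_def1
  · exact top_def2
  · exact top_def3
  · exact top_def4
  · exact top_def5
  · exact top_def6
  · exact top_def7
  · exact top_def8
  · exact top_def9
  · exact top_def10
  · exact top_def11
  · exact top_def12
  · exact top_def13
  · exact top_def14
  · exact top_def15
  · exact top_def16
  · exact top_def17
  · exact top_def18
  · exact top_def19
  · exact top_def20
  · exact top_def21
  · exact top_def22
  · exact top_def23
  · exact top_def24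
  · exact top_def25
  · exact top_def26
  · exact top_def27
  · exact top_def28
  · exact top_def29
  · exact top_def30
  · exact top_def31
  · exact top_def32
  · exact top_def33
  · exact top_def34
  · exact top_def35
  · exact top_def36
  · exact top_def37
  · exact top_def38
  · exact top_def39
  · exact top_def40
  · exact top_def41
  · exact top_def42
  · exact top_def43
  · exact top_def44
  · exact top_def45
  · exact top_def46
  · exact top_def47
  · exact top_def48
  · exact top_def49

theorem top_facts : ∀ i, top.M ≤ i + 1 → i < top.nF → ∃ J, top.chkFact i J = true := by
  exact top.facts_of_covers (Log.Covers.trans top (Log.Covers.trans top (Log.Covers.trans top (Log.Covers.trans top (Log.Covers.trans top (Log.Covers.trans top (top.covers_of_part _ _ _ top_part0) (Log.Covers.trans top (top.covers_of_part _ _ _ top_part1) (top.covers_of_part _ _ _ top_part2))) (Log.Covers.trans top (top.covers_of_part _ _ _ top_part3) (Log.Covers.trans top (top.covers_of_part _ _ _ top_part4) (top.covers_of_part _ _ _ top_part5)))) (Log.Covers.trans top (Log.Covers.trans top (top.covers_of_part _ _ _ top_part6) (Log.Covers.trans top (top.covers_of_part _ _ _ top_part7) (top.covers_of_part _ _ _ top_part8))) (Log.Covers.trans top (top.covers_of_part _ _ _ top_part9) (Log.Covers.trans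 top (top.covers_of_part _ _ _ top_part10) (top.covers_of_part _ _ _ top_part11))))) (Log.Covers.trans top (Log.Covers.trans top (Log.Covers.trans top (top.covers_of_part _ _ _ top_part12) (Log.Covers.trans top (top.covers_of_part _ _ _ top_part13) (top.covers_of_part _ _ _ top_part14))) (Log.Covers.trans top (top.covers_of_part _ _ _ top_part15) (Log.Covers.trans top (top.covers_of_part _ _ _ top_part16) (top.covers_of_part _ _ _ top_part17)))) (Log.Covers.trans top (Log.Covers.trans top (top.covers_of_part _ _ _ top_part18) (Log.Covers.trans top (top.covers_of_part _ _ _ top_part19) (top.covers_of_part _ _ _ top_part20))) (Log.Covers.trans top (top.covers_of_part _ _ _ top_part21) (Log.Covers.trans top (top.covers_of_part _ _ _ top_part22) (top.covers_of_part _ _ _ top_part23)))))) (Log.Covers.trans top (Log.Covers.trans top (Log.Covers.trans top (Log.Covers.trans top (top.covers_of_part _ _ _ top_part24) (Log.Covers.trans top (top.covers_of_part _ _ _ top_part25) (top.covers_of_part _ _ _ top_part26))) (Log.Covers.trans top (top.covers_of_part _ _ _ top_part27) (Log.Covers.trans top (top.covers_of_part _ _ _ top_part28) (top.covers_of_part _ _ _ top_part29)))) (Log.Covers.trans top (Log.Covers.trans top (top.covers_of_part _ _ _ top_part30) (Log.Covers.trans top (top.covers_of_part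 _ _ _ top_part31) (top.covers_of_part _ _ _ top_part32))) (Log.Covers.trans top (top.covers_of_part _ _ _ top_part33) (Log.Covers.trans top (top.covers_of_part _ _ _ top_part34) (top.covers_of_part _ _ _ top_part35))))) (Log.Covers.trans top (Log.Covers.trans top (Log.Covers.trans top (top.covers_of_part _ _ _ top_part36) (Log.Covers.trans top (top.covers_of_part _ _ _ top_part37) (top.covers_of_part _ _ _ top_part38))) (Log.Covers.trans top (top.covers_of_part _ _ _ top_part39) (Log.Covers.trans top (top.covers_of_part _ _ _ top_part40) (top.covers_of_part _ _ _ top_part41)))) (Log.Covers.trans top (Log.Covers.trans top (top.covers_of_part _ _ _ top_part42) (Log.Covers.trans top (top.covers_of_part _ _ _ top_part43) (top.covers_of_part _ _ _ top_part44))) (Log.Covers.trans top (top.covers_of_part _ _ _ top_part45) (Log.Covers.trans top (top.covers_of_part _ _ _ top_part46) (top.covers_of_part _ _ _ top_part47))))))) (Log.Covers.trans top (Log.Covers.trans top (Log.Covers.trans top (Log.Covers.trans top (Log.Covers.trans top (top.covers_of_part _ _ _ top_part48) (Log.Covers.trans top (top.covers_of_part _ _ _ top_part49) (top.covers_of_part _ _ _ top_part50))) (Log.Covers.trans top (top.covers_of_part _ _ _ top_part51) (Log.Covers.trans top (top.covers_of_part _ _ _ top_part52)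 (top.covers_of_part _ _ _ top_part53)))) (Log.Covers.trans top (Log.Covers.trans top (top.covers_of_part _ _ _ top_part54) (Log.Covers.trans top (top.covers_of_part _ _ _ top_part55) (top.covers_of_part _ _ _ top_part56))) (Log.Covers.trans top (top.covers_of_part _ _ _ top_part57) (Log.Covers.trans top (top.covers_of_part _ _ _ top_part58) (top.covers_of_part _ _ _ top_part59))))) (Log.Covers.trans top (Log.Covers.trans top (Log.Covers.trans top (top.covers_of_part _ _ _ top_part60) (Log.Covers.trans top (top.covers_of_part _ _ _ top_part61) (top.covers_of_part _ _ _ top_part62))) (Log.Covers.trans top (top.covers_of_part _ _ _ top_part63) (Log.Covers.trans top (top.covers_of_part _ _ _ top_part64) (top.covers_of_part _ _ _ top_part65)))) (Log.Covers.trans top (Log.Covers.trans top (top.covers_of_part _ _ _ top_part66) (Log.Covers.trans top (top.covers_of_part _ _ _ top_part67) (top.covers_of_part _ _ _ top_part68))) (Log.Covers.trans top (top.covers_of_part _ _ _ top_part69) (Log.Covers.trans top (top.covers_of_part _ _ _ top_part70) (top.covers_of_part _ _ _ top_part71)))))) (Log.Covers.trans top (Log.Covers.trans top (Log.Covers.trans top (Log.Covers.trans top (top.covers_of_part _ _ _ top_part72) (Log.Covers.trans top (top.covers_of_part _ _ _ top_part73) (top.covers_of_part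 _ _ _ top_part74))) (Log.Covers.trans top (top.covers_of_part _ _ _ top_part75) (Log.Covers.trans top (top.covers_of_part _ _ _ top_part76) (top.covers_of_part _ _ _ top_part77)))) (Log.Covers.trans top (Log.Covers.trans top (top.covers_of_part _ _ _ top_part78) (Log.Covers.trans top (top.covers_of_part _ _ _ top_part79) (top.covers_of_part _ _ _ top_part80))) (Log.Covers.trans top (top.covers_of_part _ _ _ top_part81) (Log.Covers.trans top (top.covers_of_part _ _ _ top_part82) (top.covers_of_part _ _ _ top_part83))))) (Log.Covers.trans top (Log.Covers.trans top (Log.Covers.trans top (top.covers_of_part _ _ _ top_part84) (Log.Covers.trans top (top.covers_of_part _ _ _ top_part85) (top.covers_of_part _ _ _ top_part86))) (Log.Covers.trans top (top.covers_of_part _ _ _ top_part87) (Log.Covers.trans top (top.covers_of_part _ _ _ top_part88) (top.covers_of_part _ _ _ top_part89)))) (Log.Covers.trans top (Log.Covers.trans top (top.covers_of_part _ _ _ top_part90) (Log.Covers.trans top (top.covers_of_part _ _ _ top_part91) (top.covers_of_part _ _ _ top_part92))) (Log.Covers.trans top (top.covers_of_part _ _ _ top_part93) (Log.Covers.trans top (top.covers_of_part _ _ _ top_part94) (top.covers_of_part _ _ _ top_part95)))))))) rfl rfl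

theorem top_final0 : allBlock top.chkFinal 65610 512 0 = true := by decide +kernel

theorem top_final1 : allBlock top.chkFinal 65610 512 1 = true := by decide +kernel

theorem top_final2 : allBlock top.chkFinal 65610 512 2 = true := by decide +kernel

theorem top_final3 : allBlock top.chkFinal 65610 512 3 = true := by decide +kernel

theorem top_final4 : allBlock top.chkFinal 65610 512 4 = true := by decide +kernel

theorem top_final5 : allBlock top.chkFinal 65610 512 5 = true := by decide +kernel

theorem top_final6 : allBlock top.chkFinal 65610 512 6 = true := by decide +kernel

theorem top_final7 : allBlock top.chkFinal 65610 512 7 = true := by decide +kernel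

theorem top_final8 : allBlock top.chkFinal 65610 512 8 = true := by decide +kernel

theorem top_final9 : allBlock top.chkFinal 65610 512 9 = true := by decide +kernel

theorem top_final10 : allBlock top.chkFinal 65610 512 10 = true := by decide +kernel

theorem top_final11 : allBlock top.chkFinal 65610 512 11 = true := by decide +kernel

theorem top_final12 : allBlock top.chkFinal 65610 512 12 = true := by decide +kernel

theorem top_final13 : allBlock top.chkFinal 65610 512 13 = true := by decide +kernel

theorem top_final14 : allBlock top.chkFinal 65610 512 14 = true := by decide +kernel

theorem top_final15 : allBlock top.chkFinal 65610 512 15 = true := by decide +kernel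

theorem top_final16 : allBlock top.chkFinal 65610 512 16 = true := by decide +kernel

theorem top_final17 : allBlock top.chkFinal 65610 512 17 = true := by decide +kernel

theorem top_final18 : allBlock top.chkFinal 65610 512 18 = true := by decide +kernel

theorem top_final19 : allBlock top.chkFinal 65610 512 19 = true := by decide +kernel

theorem top_final20 : allBlock top.chkFinal 65610 512 20 = true := by decide +kernel

theorem top_final21 : allBlock top.chkFinal 65610 512 21 = true := by decide +kernel

theorem top_final22 : allBlock top.chkFinal 65610 512 22 = true := by decide +kernel

theorem top_final23 : allBlock top.chkFinal 65610 512 23 = true := by decide +kernel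

theorem top_final24 : allBlock top.chkFinal 65610 512 24 = true := by decide +kernel

theorem top_final25 : allBlock top.chkFinal 65610 512 25 = true := by decide +kernel

theorem top_final26 : allBlock top.chkFinal 65610 512 26 = true := by decide +kernel

theorem top_final27 : allBlock top.chkFinal 65610 512 27 = true := by decide +kernel

theorem top_final28 : allBlock top.chkFinal 65610 512 28 = true := by decide +kernel

theorem top_final29 : allBlock top.chkFinal 65610 512 29 = true := by decide +kernel

theorem top_final30 : allBlock top.chkFinal 65610 512 30 = true := by decide +kernel

theorem top_final31 : allBlock top.chkFinal 65610 512 31 = true := by decide +kernel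

theorem top_final32 : allBlock top.chkFinal 65610 512 32 = true := by decide +kernel

theorem top_final33 : allBlock top.chkFinal 65610 512 33 = true := by decide +kernel

theorem top_final34 : allBlock top.chkFinal 65610 512 34 = true := by decide +kernel

theorem top_final35 : allBlock top.chkFinal 65610 512 35 = true := by decide +kernel

theorem top_final36 : allBlock top.chkFinal 65610 512 36 = true := by decide +kernel

theorem top_final37 : allBlock top.chkFinal 65610 512 37 = true := by decide +kernel

theorem top_final38 : allBlock top.chkFinal 65610 512 38 = true := by decide +kernel

theorem top_final39 : allBlock top.chkFinal 65610 512 39 = true := by decide +kernel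

theorem top_final40 : allBlock top.chkFinal 65610 512 40 = true := by decide +kernel

theorem top_final41 : allBlock top.chkFinal 65610 512 41 = true := by decide +kernel

theorem top_final42 : allBlock top.chkFinal 65610 512 42 = true := by decide +kernel

theorem top_final43 : allBlock top.chkFinal 65610 512 43 = true := by decide +kernel

theorem top_final44 : allBlock top.chkFinal 65610 512 44 = true := by decide +kernel

theorem top_final45 : allBlock top.chkFinal 65610 512 45 = true := by decide +kernel

theorem top_final46 : allBlock top.chkFinal 65610 512 46 = true := by decide +kernel

theorem top_final47 : allBlock top.chkFinal 65610 512 47 = true := by decide +kernel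

theorem top_final48 : allBlock top.chkFinal 65610 512 48 = true := by decide +kernel

theorem top_final49 : allBlock top.chkFinal 65610 512 49 = true := by decide +kernel

theorem top_final50 : allBlock top.chkFinal 65610 512 50 = true := by decide +kernel

theorem top_final51 : allBlock top.chkFinal 65610 512 51 = true := by decide +kernel

theorem top_final52 : allBlock top.chkFinal 65610 512 52 = true := by decide +kernel

theorem top_final53 : allBlock top.chkFinal 65610 512 53 = true := by decide +kernel

theorem top_final54 : allBlock top.chkFinal 65610 512 54 = true := by decide +kernel

theorem top_final55 : allBlock top.chkFinal 65610 512 55 = true := by decide +kernel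

theorem top_final56 : allBlock top.chkFinal 65610 512 56 = true := by decide +kernel

theorem top_final57 : allBlock top.chkFinal 65610 512 57 = true := by decide +kernel

theorem top_final58 : allBlock top.chkFinal 65610 512 58 = true := by decide +kernel

theorem top_final59 : allBlock top.chkFinal 65610 512 59 = true := by decide +kernel

theorem top_final60 : allBlock top.chkFinal 65610 512 60 = true := by decide +kernel

theorem top_final61 : allBlock top.chkFinal 65610 512 61 = true := by decide +kernel

theorem top_final62 : allBlock top.chkFinal 65610 512 62 = true := by decide +kernel

theorem top_final63 : allBlock top.chkFinal 65610 512 63 = true := by decide +kernel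

theorem top_final64 : allBlock top.chkFinal 65610 512 64 = true := by decide +kernel

theorem top_final65 : allBlock top.chkFinal 65610 512 65 = true := by decide +kernel

theorem top_final66 : allBlock top.chkFinal 65610 512 66 = true := by decide +kernel

theorem top_final67 : allBlock top.chkFinal 65610 512 67 = true := by decide +kernel

theorem top_final68 : allBlock top.chkFinal 65610 512 68 = true := by decide +kernel

theorem top_final69 : allBlock top.chkFinal 65610 512 69 = true := by decide +kernel

theorem top_final70 : allBlock top.chkFinal 65610 512 70 = true := by decide +kernel

theorem top_final71 : allBlock top.chkFinal 65610 512 71 = true := by decide +kernel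

theorem top_final72 : allBlock top.chkFinal 65610 512 72 = true := by decide +kernel

theorem top_final73 : allBlock top.chkFinal 65610 512 73 = true := by decide +kernel

theorem top_final74 : allBlock top.chkFinal 65610 512 74 = true := by decide +kernel

theorem top_final75 : allBlock top.chkFinal 65610 512 75 = true := by decide +kernel

theorem top_final76 : allBlock top.chkFinal 65610 512 76 = true := by decide +kernel

theorem top_final77 : allBlock top.chkFinal 65610 512 77 = true := by decide +kernel

theorem top_final78 : allBlock top.chkFinal 65610 512 78 = true := by decide +kernel

theorem top_final79 : allBlock top.chkFinal 65610 512 79 = true := by decide +kernel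

theorem top_final80 : allBlock top.chkFinal 65610 512 80 = true := by decide +kernel

theorem top_final81 : allBlock top.chkFinal 65610 512 81 = true := by decide +kernel

theorem top_final82 : allBlock top.chkFinal 65610 512 82 = true := by decide +kernel

theorem top_final83 : allBlock top.chkFinal 65610 512 83 = true := by decide +kernel

theorem top_final84 : allBlock top.chkFinal 65610 512 84 = true := by decide +kernel

theorem top_final85 : allBlock top.chkFinal 65610 512 85 = true := by decide +kernel

theorem top_final86 : allBlock top.chkFinal 65610 512 86 = true := by decide +kernel

theorem top_final87 : allBlock top.chkFinal 65610 512 87 = true := by decide +kernel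

theorem top_final88 : allBlock top.chkFinal 65610 512 88 = true := by decide +kernel

theorem top_final89 : allBlock top.chkFinal 65610 512 89 = true := by decide +kernel

theorem top_final90 : allBlock top.chkFinal 65610 512 90 = true := by decide +kernel

theorem top_final91 : allBlock top.chkFinal 65610 512 91 = true := by decide +kernel

theorem top_final92 : allBlock top.chkFinal 65610 512 92 = true := by decide +kernel

theorem top_final93 : allBlock top.chkFinal 65610 512 93 = true := by decide +kernel

theorem top_final94 : allBlock top.chkFinal 65610 512 94 = true := by decide +kernel

theorem top_final95 : allBlock top.chkFinal 65610 512 95 = true := by decide +kernel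

theorem top_final96 : allBlock top.chkFinal 65610 512 96 = true := by decide +kernel

theorem top_final97 : allBlock top.chkFinal 65610 512 97 = true := by decide +kernel

theorem top_final98 : allBlock top.chkFinal 65610 512 98 = true := by decide +kernel

theorem top_final99 : allBlock top.chkFinal 65610 512 99 = true := by decide +kernel

theorem top_final100 : allBlock top.chkFinal 65610 512 100 = true := by decide +kernel

theorem top_final101 : allBlock top.chkFinal 65610 512 101 = true := by decide +kernel

theorem top_final102 : allBlock top.chkFinal 65610 512 102 = true := by decide +kernel

theorem top_final103 : allBlock top.chkFinal 65610 512 103 = true := by decide +kernel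

theorem top_final104 : allBlock top.chkFinal 65610 512 104 = true := by decide +kernel

theorem top_final105 : allBlock top.chkFinal 65610 512 105 = true := by decide +kernel

theorem top_final106 : allBlock top.chkFinal 65610 512 106 = true := by decide +kernel

theorem top_final107 : allBlock top.chkFinal 65610 512 107 = true := by decide +kernel

theorem top_final108 : allBlock top.chkFinal 65610 512 108 = true := by decide +kernel

theorem top_final109 : allBlock top.chkFinal 65610 512 109 = true := by decide +kernel

theorem top_final110 : allBlock top.chkFinal 65610 512 110 = true := by decide +kernel

theorem top_final111 : allBlock top.chkFinal 65610 512 111 = true := by decide +kernel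

theorem top_final112 : allBlock top.chkFinal 65610 512 112 = true := by decide +kernel

theorem top_final113 : allBlock top.chkFinal 65610 512 113 = true := by decide +kernel

theorem top_final114 : allBlock top.chkFinal 65610 512 114 = true := by decide +kernel

theorem top_final115 : allBlock top.chkFinal 65610 512 115 = true := by decide +kernel

theorem top_final116 : allBlock top.chkFinal 65610 512 116 = true := by decide +kernel

theorem top_final117 : allBlock top.chkFinal 65610 512 117 = true := by decide +kernel

theorem top_final118 : allBlock top.chkFinal 65610 512 118 = true := by decide +kernel

theorem top_final119 : allBlock top.chkFinal 65610 512 119 = true := by decide +kernel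

theorem top_final120 : allBlock top.chkFinal 65610 512 120 = true := by decide +kernel

theorem top_final121 : allBlock top.chkFinal 65610 512 121 = true := by decide +kernel

theorem top_final122 : allBlock top.chkFinal 65610 512 122 = true := by decide +kernel

theorem top_final123 : allBlock top.chkFinal 65610 512 123 = true := by decide +kernel

theorem top_final124 : allBlock top.chkFinal 65610 512 124 = true := by decide +kernel

theorem top_final125 : allBlock top.chkFinal 65610 512 125 = true := by decide +kernel

theorem top_final126 : allBlock top.chkFinal 65610 512 126 = true := by decide +kernel

theorem top_final127 : allBlock top.chkFinal 65610 512 127 = true := by decide +kernel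

theorem top_final128 : allBlock top.chkFinal 65610 512 128 = true := by decide +kernel

theorem top_checks : top.Checks where
  pos := by decide +kernel
  defs := top_defs
  facts := top_facts
  final := by
    intro k hk
    change k < 6561 * 10 at hk
    refine of_allBlock (n := 65610) (size := 512) (by decide) (fun j hj => ?_) (by omega)
    have hj' : j < 129 := by omega
    interval_cases j
    · exact top_final0
    · exact top_final1
    · exact top_final2
    · exact top_final3
    · exact top_final4
    · exact top_final5
    · exact top_final6
    · exact top_final7
    · exact top_final8
    · exact top_final9
    · exact top_final10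
    · exact top_final11
    · exact top_final12
    · exact top_final13
    · exact top_final14
    · exact top_final15
    · exact top_final16
    · exact top_final17
    · exact top_final18
    · exact top_final19
    · exact top_final20
    · exact top_final21
    · exact top_final22
    · exact top_final23
    · exact top_final24
    · exact top_final25
    · exact top_final26
    · exact top_final27
    · exact top_final28
    · exact top_final29
    · exact top_final30
    · exact top_final31
    · exact top_final32
    · exact top_final33
    · exact top_final34
    · exact top_final35
    · exact top_final36
    · exact top_final37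
    · exact top_final38
    · exact top_final39
    · exact top_final40
    · exact top_final41
    · exact top_final42
    · exact top_final43
    · exact top_final44
    · exact top_final45
    · exact top_final46
    · exact top_final47
    · exact top_final48
    · exact top_final49
    · exact top_final50
    · exact top_final51
    · exact top_final52
    · exact top_final53
    · exact top_final54
    · exact top_final55
    · exact top_final56
    · exact top_final57
    · exact top_final58
    · exact top_final59
    · exact top_final60
    · exact top_final61
    · exact top_final62
    · exact top_final63
    · exact top_final64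
    · exact top_final65
    · exact top_final66
    · exact top_final67
    · exact top_final68
    · exact top_final69
    · exact top_final70
    · exact top_final71
    · exact top_final72
    · exact top_final73
    · exact top_final74
    · exact top_final75
    · exact top_final76
    · exact top_final77
    · exact top_final78
    · exact top_final79
    · exact top_final80
    · exact top_final81
    · exact top_final82
    · exact top_final83
    · exact top_final84
    · exact top_final85
    · exact top_final86
    · exact top_final87
    · exact top_final88
    · exact top_final89
    · exact top_final90
    · exact top_final91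
    · exact top_final92
    · exact top_final93
    · exact top_final94
    · exact top_final95
    · exact top_final96
    · exact top_final97
    · exact top_final98
    · exact top_final99
    · exact top_final100
    · exact top_final101
    · exact top_final102
    · exact top_final103
    · exact top_final104
    · exact top_final105
    · exact top_final106
    · exact top_final107
    · exact top_final108
    · exact top_final109
    · exact top_final110
    · exact top_final111
    · exact top_final112
    · exact top_final113
    · exact top_final114
    · exact top_final115
    · exact top_final116
    · exact top_final117
    · exact top_final118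
    · exact top_final119
    · exact top_final120
    · exact top_final121
    · exact top_final122
    · exact top_final123
    · exact top_final124
    · exact top_final125
    · exact top_final126
    · exact top_final127
    · exact top_final128

theorem top_derived : top.rels.all (derivedOk top.n topBase) = true := by decide +kernel

end Cfsg.Agent.Spor.Cos.Y522
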