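import Cfsg.Agent.Lib.Spor.Cos.Y522.Y4Part0
import Cfsg.Agent.Lib.Spor.Cos.Y522.Y4Part1
import Cfsg.Agent.Lib.Spor.Cos.Y522.Y4Part2

/-! A checked coset enumeration. -/

set_option autoImplicit false
set_option maxRecDepth 100000
set_option maxHeartbeats 4000000

namespace Cfsg.Agent.Spor.Cos.Y522

theorem y4_def0 : allBlock y4.chkDef 8531 512 0 = true := by decide +kernel

theorem y4_def1 : allBlock y4.chkDef 8531 512 1 = true := by decide +kernel

theorem y4_def2 : allBlock y4.chkDef 8531 512 2 = true := by decide +kernel

theorem y4_def3 : allBlock y4.chkDef 8531 512 3 = true := by decide +kernel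

theorem y4_def4 : allBlock y4.chkDef 8531 512 4 = true := by decide +kernel

theorem y4_def5 : allBlock y4.chkDef 8531 512 5 = true := by decide +kernel

theorem y4_def6 : allBlock y4.chkDef 8531 512 6 = true := by decide +kernel

theorem y4_def7 : allBlock y4.chkDef 8531 512 7 = true := by decide +kernel

theorem y4_def8 : allBlock y4.chkDef 8531 512 8 = true := by decide +kernel

theorem y4_def9 : allBlock y4.chkDef 8531 512 9 = true := by decide +kernel

theorem y4_def10 : allBlock y4.chkDef 8531 512 10 = true := by decide +kernel

theorem y4_def11 : allBlock y4.chkDef 8531 512 11 = true := by decide +kernel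

theorem y4_def12 : allBlock y4.chkDef 8531 512 12 = true := by decide +kernel

theorem y4_def13 : allBlock y4.chkDef 8531 512 13 = true := by decide +kernel

theorem y4_def14 : allBlock y4.chkDef 8531 512 14 = true := by decide +kernel

theorem y4_def15 : allBlock y4.chkDef 8531 512 15 = true := by decide +kernel

theorem y4_def16 : allBlock y4.chkDef 8531 512 16 = true := by decide +kernel

theorem y4_defs : ∀ i, i + 1 < y4.M → y4.chkDef i = true := by
  intro i hi
  change i + 1 < 8532 at hi
  refine of_allBlock (n := 8531) (size := 512) (by decide) (fun j hj => ?_) (by omega)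
  have hj' : j < 17 := by omega
  interval_cases j
  · exact y4_def0
  · exact y4_def1
  · exact y4_def2
  · exact y4_def3
  · exact y4_def4
  · exact y4_def5
  · exact y4_def6
  · exact y4_def7
  · exact y4_def8
  · exact y4_def9
  · exact y4_def10
  · exact y4_def11
  · exact y4_def12
  · exact y4_def13
  · exact y4_def14
  · exact y4_def15
  · exact y4_def16

theorem y4_facts : ∀ i, y4.M ≤ i + 1 → i < y4.nF → ∃ J, y4.chkFact i J = true := by
  exact y4.facts_of_covers (Log.Covers.trans y4 (Log.Covers.trans y4 (Log.Covers.trans y4 (Log.Covers.trans y4 (y4.covers_of_part _ _ _ y4_part0) (Log.Covers.trans y4 (y4.covers_of_part _ _ _ y4_part1) (y4.covers_of_part _ _ _ y4_part2))) (Log.Covers.trans y4 (Log.Covers.trans y4 (y4.covers_of_part _ _ _ y4_part3) (y4.covers_of_part _ _ _ y4_part4)) (Log.Covers.trans y4 (y4.covers_of_part _ _ _ y4_part5) (y4.covers_of_part _ _ _ y4_part6)))) (Log.Covers.trans y4 (Log.Covers.trans y4 (Log.Covers.trans y4 (y4.covers_of_part _ _ _ y4_part7) (y4.covers_of_part _ _ _ y4_part8)) (Log.Covers.trans y4 (y4.covers_of_part _ _ _ y4_part9) (y4.covers_of_part _ _ _ y4_part10))) (Log.Covers.trans y4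 (Log.Covers.trans y4 (y4.covers_of_part _ _ _ y4_part11) (y4.covers_of_part _ _ _ y4_part12)) (Log.Covers.trans y4 (y4.covers_of_part _ _ _ y4_part13) (y4.covers_of_part _ _ _ y4_part14))))) (Log.Covers.trans y4 (Log.Covers.trans y4 (Log.Covers.trans y4 (y4.covers_of_part _ _ _ y4_part15) (Log.Covers.trans y4 (y4.covers_of_part _ _ _ y4_part16) (y4.covers_of_part _ _ _ y4_part17))) (Log.Covers.trans y4 (Log.Covers.trans y4 (y4.covers_of_part _ _ _ y4_part18) (y4.covers_of_part _ _ _ y4_part19)) (Log.Covers.trans y4 (y4.covers_of_part _ _ _ y4_part20) (y4.covers_of_part _ _ _ y4_part21)))) (Log.Covers.trans y4 (Log.Covers.trans y4 (Log.Covers.trans y4 (y4.covers_of_part _ _ _ y4_part22) (y4.covers_of_part _ _ _ y4_part23)) (Log.Covers.trans y4 (y4.covers_of_part _ _ _ y4_part24) (y4.covers_of_part _ _ _ y4_part25))) (Log.Covers.trans y4 (Log.Covers.trans y4 (y4.covers_of_part _ _ _ y4_part26) (y4.covers_of_part _ _ _ y4_part27)) (Log.Covers.trans y4 (y4.covers_of_part _ _ _ y4_part28) (y4.covers_of_part _ _ _ y4_part29)))))) rfl rfl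

theorem y4_final0 : allBlock y4.chkFinal 19440 512 0 = true := by decide +kernel

theorem y4_final1 : allBlock y4.chkFinal 19440 512 1 = true := by decide +kernel

theorem y4_final2 : allBlock y4.chkFinal 19440 512 2 = true := by decide +kernel

theorem y4_final3 : allBlock y4.chkFinal 19440 512 3 = true := by decide +kernel

theorem y4_final4 : allBlock y4.chkFinal 19440 512 4 = true := by decide +kernel

theorem y4_final5 : allBlock y4.chkFinal 19440 512 5 = true := by decide +kernel

theorem y4_final6 : allBlock y4.chkFinal 19440 512 6 = true := by decide +kernel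

theorem y4_final7 : allBlock y4.chkFinal 19440 512 7 = true := by decide +kernel

theorem y4_final8 : allBlock y4.chkFinal 19440 512 8 = true := by decide +kernel

theorem y4_final9 : allBlock y4.chkFinal 19440 512 9 = true := by decide +kernel

theorem y4_final10 : allBlock y4.chkFinal 19440 512 10 = true := by decide +kernel

theorem y4_final11 : allBlock y4.chkFinal 19440 512 11 = true := by decide +kernel

theorem y4_final12 : allBlock y4.chkFinal 19440 512 12 = true := by decide +kernel

theorem y4_final13 : allBlock y4.chkFinal 19440 512 13 = true := by decide +kernel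

theorem y4_final14 : allBlock y4.chkFinal 19440 512 14 = true := by decide +kernel

theorem y4_final15 : allBlock y4.chkFinal 19440 512 15 = true := by decide +kernel

theorem y4_final16 : allBlock y4.chkFinal 19440 512 16 = true := by decide +kernel

theorem y4_final17 : allBlock y4.chkFinal 19440 512 17 = true := by decide +kernel

theorem y4_final18 : allBlock y4.chkFinal 19440 512 18 = true := by decide +kernel

theorem y4_final19 : allBlock y4.chkFinal 19440 512 19 = true := by decide +kernel

theorem y4_final20 : allBlock y4.chkFinal 19440 512 20 = true := by decide +kernel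

theorem y4_final21 : allBlock y4.chkFinal 19440 512 21 = true := by decide +kernel

theorem y4_final22 : allBlock y4.chkFinal 19440 512 22 = true := by decide +kernel

theorem y4_final23 : allBlock y4.chkFinal 19440 512 23 = true := by decide +kernel

theorem y4_final24 : allBlock y4.chkFinal 19440 512 24 = true := by decide +kernel

theorem y4_final25 : allBlock y4.chkFinal 19440 512 25 = true := by decide +kernel

theorem y4_final26 : allBlock y4.chkFinal 19440 512 26 = true := by decide +kernel

theorem y4_final27 : allBlock y4.chkFinal 19440 512 27 = true := by decide +kernel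

theorem y4_final28 : allBlock y4.chkFinal 19440 512 28 = true := by decide +kernel

theorem y4_final29 : allBlock y4.chkFinal 19440 512 29 = true := by decide +kernel

theorem y4_final30 : allBlock y4.chkFinal 19440 512 30 = true := by decide +kernel

theorem y4_final31 : allBlock y4.chkFinal 19440 512 31 = true := by decide +kernel

theorem y4_final32 : allBlock y4.chkFinal 19440 512 32 = true := by decide +kernel

theorem y4_final33 : allBlock y4.chkFinal 19440 512 33 = true := by decide +kernel

theorem y4_final34 : allBlock y4.chkFinal 19440 512 34 = true := by decide +kernel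

theorem y4_final35 : allBlock y4.chkFinal 19440 512 35 = true := by decide +kernel

theorem y4_final36 : allBlock y4.chkFinal 19440 512 36 = true := by decide +kernel

theorem y4_final37 : allBlock y4.chkFinal 19440 512 37 = true := by decide +kernel

theorem y4_checks : y4.Checks where
  pos := by decide +kernel
  defs := y4_defs
  facts := y4_facts
  final := by
    intro k hk
    change k < 2160 * 9 at hk
    refine of_allBlock (n := 19440) (size := 512) (by decide) (fun j hj => ?_) (by omega)
    have hj' : j < 38 := by omega
    interval_cases j
    · exact y4_final0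
    · exact y4_final1
    · exact y4_final2
    · exact y4_final3
    · exact y4_final4
    · exact y4_final5
    · exact y4_final6
    · exact y4_final7
    · exact y4_final8
    · exact y4_final9
    · exact y4_final10
    · exact y4_final11
    · exact y4_final12
    · exact y4_final13
    · exact y4_final14
    · exact y4_final15
    · exact y4_final16
    · exact y4_final17
    · exact y4_final18
    · exact y4_final19
    · exact y4_final20
    · exact y4_final21
    · exact y4_final22
    · exact y4_final23
    · exact y4_final24
    · exact y4_final25
    · exact y4_final26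
    · exact y4_final27
    · exact y4_final28
    · exact y4_final29
    · exact y4_final30
    · exact y4_final31
    · exact y4_final32
    · exact y4_final33
    · exact y4_final34
    · exact y4_final35
    · exact y4_final36
    · exact y4_final37

theorem y4_derived : y4.rels.all (derivedOk y4.n y4Base) = true := by decide +kernel

end Cfsg.Agent.Spor.Cos.Y522
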