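import Cfsg.Agent.Lib.Spor.Cos.Y522.Words
import Cfsg.Agent.Lib.Spor.Cos.Cox
import Cfsg.Agent.Lib.Spor.Cos.Orb
import Cfsg.Agent.Lib.Spor.Cos.Y522.TopCert
import Cfsg.Agent.Lib.Spor.Cos.Y522.Y4Cert
import Cfsg.Agent.Lib.Spor.Cos.Y522.Y3Cert
import Cfsg.Agent.Lib.Spor.Cos.Y522.Y2Cert
import Cfsg.Agent.Lib.Spor.Cos.Y522.E6Cert
import Cfsg.Agent.Lib.Spor.Cos.Y522.D5Cert
import Cfsg.Agent.Lib.Spor.Cos.Y522.A4Cert

/-! Data and checks for a presented sporadic group. -/

set_option autoImplicit false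
set_option maxRecDepth 100000
set_option maxHeartbeats 4000000

open Cfsg.Spor

namespace Cfsg.Agent.Spor.Cos.Y522

/-- The generators. -/
inductive Gen | a | b1 | c1 | d1 | e1 | f1 | b2 | c2 | b3 | c3
deriving DecidableEq

/-- The edges. -/
def edges : List (Gen × ℕ × Gen) := [(.a, 3, .b1), (.a, 3, .b2), (.a, 3, .b3), (.b1, 3, .c1), (.c1, 3, .d1), (.d1, 3, .e1), (.e1, 3, .f1), (.b2, 3, .c2), (.b3, 3, .c3)]

/-- The spider relation. -/
def extra : List (FreeGroup Gen) := [(FreeGroup.of Gen.a * FreeGroup.of Gen.b1 * FreeGroup.of Gen.c1 * FreeGroup.of Gen.a * FreeGroup.of Gen.b2 * FreeGroup.of Gen.c2 * FreeGroup.of Gen.a * FreeGroup.of Gen.b3 * FreeGroup.of Gen.c3) ^ 10]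

/-- The presented group. -/
abbrev P : Type := Cfsg.Spor.CoxPresented Gen edges extra

/-- The generators in order. -/
def alph : List Gen := [.a, .b1, .c1, .d1, .e1, .f1, .b2, .c2, .b3, .c3]

/-- The place of a generator. -/
def num : Gen → ℕ
  | .a => 0
  | .b1 => 1
  | .c1 => 2
  | .d1 => 3
  | .e1 => 4
  | .f1 => 5
  | .b2 => 6
  | .c2 => 7
  | .b3 => 8
  | .c3 => 9

theorem pres : Pres edges extra alph num words where
  index := by intro x; cases x <;> rfl
  node := by intro x; cases x <;> decide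
  order := rfl
  fromRels := by decide +kernel
  toBase := by decide +kernel

/-- The generators by number. -/
noncomputable def g : ℕ → P := gen edges extra alph

theorem g_sq (s : ℕ) : g s * g s = 1 := pres.inv s

theorem g_words : ∀ w ∈ words, ev g w = 1 := fun _ hw => pres.ev_base hw

theorem g_gen : Subgroup.closure {x | ∃ s < 10, g s = x} = ⊤ := pres.closure_gen

theorem upper : Finite P ∧ Nat.card P ≤ 129965007049113600 := by
  have h0 : Bound g [] 1 := Bound.nil
  have h1 : Bound g [0, 1, 6, 7] 120 :=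
    Bound.step (d := 10) g_sq h0 a4 a4_checks rfl (by decide +kernel)
      (hbase_of g_sq g_words (n := 10) (by decide +kernel)) a4_derived
  have h2 : Bound g [0, 1, 6, 7, 8] 1920 :=
    Bound.step (d := 10) g_sq h1 d5 d5_checks rfl (by decide +kernel)
      (hbase_of g_sq g_words (n := 10) (by decide +kernel)) d5_derived
  have h3 : Bound g [0, 1, 2, 6, 7, 8] 51840 :=
    Bound.step (d := 10) g_sq h2 e6 e6_checks rfl (by decide +kernel)
      (hbase_of g_sq g_words (n := 10) (by decide +kernel)) e6_derived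
  have h4 : Bound g [0, 1, 2, 6, 7, 8, 9] 12597120 :=
    Bound.step (d := 10) g_sq h3 y2 y2_checks rfl (by decide +kernel)
      (hbase_of g_sq g_words (n := 10) (by decide +kernel)) y2_derived
  have h5 : Bound g [0, 1, 2, 3, 6, 7, 8, 9] 9170703360 :=
    Bound.step (d := 10) g_sq h4 y3 y3_checks rfl (by decide +kernel)
      (hbase_of g_sq g_words (n := 10) (by decide +kernel)) y3_derived
  have h6 : Bound g [0, 1, 2, 3, 4, 6, 7, 8, 9] 19808719257600 :=
    Bound.step (d := 10) g_sq h5 y4 y4_checks rfl (by decide +kernel)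
      (hbase_of g_sq g_words (n := 10) (by decide +kernel)) y4_derived
  have h7 : Bound g [0, 1, 2, 3, 4, 5, 6, 7, 8, 9] 129965007049113600 :=
    Bound.step (d := 10) g_sq h6 top top_checks rfl (by decide +kernel)
      (hbase_of g_sq g_words (n := 10) (by decide +kernel)) top_derived
  exact Bound.top (n := 10) h7 g_gen

theorem finite : Finite P := upper.1

end Cfsg.Agent.Spor.Cos.Y522
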